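import Groth.Agent.FieldDualLib.Basic
import Groth.Agent.PnDualLib.HomExtAdd
import Groth.Agent.CohGenLib.Localization
import Groth.Agent.LeffEtLib.Restrict
import Groth.Agent.HomCohLib.Coh
import Groth.Agent.PerfLib.Coherent
import Groth.Agent.DevissLib.Basic
import Groth.Agent.LocImmLib.Union
import Groth.Agent.Dual3Lib.PnCoh
import Groth.Agent.HTorCohLib.Main
import Groth.Agent.EssZeroLib.Limit
import Groth.Agent.CohCmpLib.UnitFibre
import Groth.Agent.DefClassLib.Basic
import Groth.Agent.S3664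
import Groth.Agent.S0341
import Groth.Agent.S0342
import Groth.Prelude.Def_CxOX

/-!
# Classes on `U` which vanish are killed by a power of the ideal, and the dual statement on cohomology

For a proper regular variety `X` of dimension `n` and `U = X ∖ V(I)` of cohomological dimension at most `r`, the
maps `H^i(I^b F) → H^i(I^a F)` vanish for `b ≫ a` when `i + r < n`.
-/

set_option autoImplicit false
set_option linter.style.haveILetI false
set_option linter.unusedSectionVars false
set_option maxHeartbeats 1000000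
set_option synthInstance.maxHeartbeats 200000
set_option backward.isDefEq.respectTransparency false
set_option backward.isDefEq.respectTransparency.types false

universe u

open CategoryTheory CategoryTheory.Limits AlgebraicGeometry DerivedCategory Abelian

attribute [local instance] HasDerivedCategory.standard

noncomputable section

namespace CohDimFormalLib

variable {X : Scheme.{u}}

/-- The Deligne system of a module placed in degree zero. -/
def deligneIso (I : X.IdealSheafData) (M : X.Modules) (a : ℕ) :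
    DCoh.toD X ((Dual3.deligne I a).obj ((HomologicalComplex.single X.Modules (ComplexShape.up ℤ) 0).obj M)) ≅
      DCoh.inD X ((Dual3.idealMul (I ^ a)).obj M) :=
  DerivedCategory.Q.mapIso
      ((HomologicalComplex.singleMapHomologicalComplex (Dual3.idealMul (I ^ a)) (ComplexShape.up ℤ) 0).app M) ≪≫
    ((DerivedCategory.singleFunctorIsoCompQ X.Modules 0).app _).symm

theorem inclMul_natural {I J : X.IdealSheafData} (h : J ≤ I) {M N : X.Modules} (d : M ⟶ N) :
    (Dual3.idealMul J).map d ≫ CohExtLib.inclMul h N = CohExtLib.inclMul h M ≫ (Dual3.idealMul I).map d := by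
  rw [← cancel_mono (Dual3.idealMulι I N), Category.assoc, Category.assoc, CohExtLib.inclMul_ι,
    Dual3.idealMul_map_ι, Dual3.idealMul_map_ι, CohExtLib.inclMul_ι_assoc]

/-- The inclusions of the Deligne system. -/
def deligneIncl (I : X.IdealSheafData) {a b : ℕ} (h : a ≤ b) : Dual3.idealMul (I ^ b) ⟶ Dual3.idealMul (I ^ a) where
  app M := CohExtLib.inclMul (CohExtLib.pow_le_pow h) M
  naturality _ _ d := inclMul_natural _ d

theorem deligneIso_natural (I : X.IdealSheafData) (M : X.Modules) {a b : ℕ} (h : a ≤ b) :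
    DerivedCategory.Q.map ((NatTrans.mapHomologicalComplex (deligneIncl I h) (ComplexShape.up ℤ)).app _) ≫
        (deligneIso I M a).hom =
      (deligneIso I M b).hom ≫ (singleFunctor X.Modules 0).map (CohExtLib.inclMul (CohExtLib.pow_le_pow h) M) := by
  have h1 : (NatTrans.mapHomologicalComplex (deligneIncl I h) (ComplexShape.up ℤ)).app
        ((HomologicalComplex.single X.Modules (ComplexShape.up ℤ) 0).obj M) ≫
      (HomologicalComplex.singleMapHomologicalComplex (Dual3.idealMul (I ^ a)) (ComplexShape.up ℤ) 0).hom.app M =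
      (HomologicalComplex.singleMapHomologicalComplex (Dual3.idealMul (I ^ b)) (ComplexShape.up ℤ) 0).hom.app M ≫
        (HomologicalComplex.single X.Modules (ComplexShape.up ℤ) 0).map
          (CohExtLib.inclMul (CohExtLib.pow_le_pow h) M) := by
    apply HomologicalComplex.to_single_hom_ext
    simp only [HomologicalComplex.comp_f, HomologicalComplex.singleMapHomologicalComplex_hom_app_self,
      HomologicalComplex.single_map_f_self, NatTrans.mapHomologicalComplex_app_f, deligneIncl, Category.assoc,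
      Iso.inv_hom_id_assoc]
    rw [← Category.assoc, ← inclMul_natural, Category.assoc]
  have h2 := (DerivedCategory.singleFunctorIsoCompQ X.Modules 0).inv.naturality
    (CohExtLib.inclMul (CohExtLib.pow_le_pow (J := I) h) M)
  simp only [deligneIso, Iso.trans_hom, Functor.mapIso_hom, Iso.app_hom, Iso.symm_hom, Iso.app_inv, Category.assoc]
  rw [← Functor.map_comp_assoc, h1, Functor.map_comp, Category.assoc]
  exact congrArg _ h2

section Open

variable (U : X.Opens)

/-- No maps on `U` from a locally free module to a shifted coherent module beyond the cohomological dimension. -/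
theorem subsingleton_hom_restrict [IsLocallyNoetherian X] {M ω : X.Modules} (hM : FlatMod.IsFinLocFree M)
    (hω : Coh.IsCoh ω) (j : ℕ) (hcd : ∀ G : (U : Scheme.{u}).Modules, Coh.IsCoh G →
      Subsingleton (Coh.HH (U : Scheme.{u}) G j))
    {P : X.Modules} (e : (Scheme.Modules.restrictFunctor U.ι).obj P ≅ (Scheme.Modules.restrictFunctor U.ι).obj M) :
    Subsingleton ((DCoh.restrictD U.ι).obj (DCoh.inD X P) ⟶
      (DCoh.restrictD U.ι).obj ((DCoh.inD X ω)⟦(j : ℤ)⟧)) := by
  let R := Scheme.Modules.restrictFunctor U.ι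
  haveI : EnoughInjectives (U : Scheme.{u}).Modules :=
    ModSiteLib.sheafOfModules_enoughInjectives (R := (U : Scheme.{u}).ringCatSheaf)
  haveI : HasExt.{u} (U : Scheme.{u}).Modules := hasExt_of_enoughInjectives.{u} _
  have hM' : FlatMod.IsFinLocFree (R.obj M) := LeffEt.isFinLocFree_restrict U.ι hM
  have hG := HomCohLib.isCoh_homMod (Groth.Agent.PerfLib.isCoh_of_isFinLocFree hM')
    (CohGenLib.isCoh_restrict U.ι hω)
  obtain ⟨eE⟩ := PnDualLib.nonempty_ext_homMod_add hM' j (R.obj ω)
  haveI : Subsingleton ↑(CohCmpLib.HC (U : Scheme.{u}) (CohCmpLib.homMod (R.obj M) (R.obj ω)) j) := hcd _ hG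
  haveI : Subsingleton (Ext (R.obj M) (R.obj ω) j) := eE.toEquiv.subsingleton
  haveI : Subsingleton (DCoh.inD _ (R.obj M) ⟶ (DCoh.inD _ (R.obj ω))⟦(j : ℤ)⟧) :=
    (Ext.homEquiv (X := R.obj M) (Y := R.obj ω) (n := j)).symm.subsingleton
  let e₁ : (DCoh.restrictD U.ι).obj (DCoh.inD X P) ≅ DCoh.inD _ (R.obj M) :=
    (R.mapDerivedCategorySingleFunctor 0).app P ≪≫ (singleFunctor _ 0).mapIso e
  let e₂ : (DCoh.restrictD U.ι).obj ((DCoh.inD X ω)⟦(j : ℤ)⟧) ≅ (DCoh.inD _ (R.obj ω))⟦(j : ℤ)⟧ :=
    ((DCoh.restrictD U.ι).commShiftIso (j : ℤ)).app (DCoh.inD X ω) ≪≫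
      (shiftFunctor _ (j : ℤ)).mapIso ((R.mapDerivedCategorySingleFunctor 0).app ω)
  exact (e₁.homCongr e₂).subsingleton

/-- A class on `I^a M` is killed on some `I^b M` when there are no classes on `U`. -/
theorem exists_kill [IsNoetherian X] (I : X.IdealSheafData) (hU : (U : Set X) = (I.support : Set X)ᶜ)
    {M ω : X.Modules} (hM : FlatMod.IsFinLocFree M) (hω : Coh.IsCoh ω) (j : ℕ)
    (hcd : ∀ G : (U : Scheme.{u}).Modules, Coh.IsCoh G → Subsingleton (Coh.HH (U : Scheme.{u}) G j))
    (a : ℕ) (e : DCoh.inD X ((Dual3.idealMul (I ^ a)).obj M) ⟶ (DCoh.inD X ω)⟦(j : ℤ)⟧) :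
    ∃ (b : ℕ) (h : a ≤ b), (singleFunctor X.Modules 0).map (CohExtLib.inclMul (CohExtLib.pow_le_pow h) M) ≫ e = 0 := by
  haveI : IsNoetherian (U : Scheme.{u}) := Groth.Agent.LocImmLib.isNoetherian_opens U
  have hI : I.supportSetᶜ = Set.range U.ι := (U.range_ι.trans hU).symm
  let C := (HomologicalComplex.single X.Modules (ComplexShape.up ℤ) 0).obj M
  have hMc : Coh.IsCoh M := Groth.Agent.PerfLib.isCoh_of_isFinLocFree hM
  have hC : DCoh.VanishesOutside C 0 0 := fun i hi =>
    HomologicalComplex.isZero_single_obj_X _ _ _ _ (by omega)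
  have hCc : ∀ q, Coh.IsCoh (C.X q) := fun q => by
    rcases eq_or_ne q 0 with rfl | hq
    · exact QCohLib.isCoh_of_iso (HomologicalComplex.singleObjXSelf _ 0 M).symm hMc
    · exact DevissLib.isCoh_of_isZero (HomologicalComplex.isZero_single_obj_X _ _ _ _ hq)
  have hL : DCoh.IsCohD ((DCoh.inD X ω)⟦(j : ℤ)⟧) := Groth.Agent.Dual3Lib.isCohD_shift (HTorCohLib.isCohD_inD hω) _
  have hge : ∀ i : ℤ, i < -(j : ℤ) → IsZero (DCoh.HD ((DCoh.inD X ω)⟦(j : ℤ)⟧) i) := fun i hi => by
    haveI : DerivedCategory.IsGE ((DCoh.inD X ω)⟦(j : ℤ)⟧) (-(j : ℤ)) :=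
      DerivedCategory.TStructure.t.isGE_shift (DCoh.inD X ω) 0 (j : ℤ) (-(j : ℤ)) (by omega)
    exact DerivedCategory.isZero_of_isGE _ (-(j : ℤ)) i hi
  haveI := CohExtLib.isIso_restrict_idealMulι (I ^ a) M (U := U) fun x hx =>
    CohExtLib.notMem_support_pow a fun h => (hU.le hx : x ∈ (I.support : Set X)ᶜ) h
  haveI hs := subsingleton_hom_restrict U hM hω j hcd
    (asIso ((Scheme.Modules.restrictFunctor U.ι).map (Dual3.idealMulι (I ^ a) M)))
  haveI : Subsingleton ((DCoh.restrictD U.ι).obj (DCoh.toD X ((Dual3.deligne I a).obj C)) ⟶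
      (DCoh.restrictD U.ι).obj ((DCoh.inD X ω)⟦(j : ℤ)⟧)) :=
    (((DCoh.restrictD U.ι).mapIso (deligneIso I M a)).homCongr (Iso.refl _)).subsingleton
  obtain ⟨b, hb, ht⟩ := (Groth.Agent.S3664.result (U : Scheme.{u}) X U.ι I hI C 0 0 hC hCc _ hL (-(j : ℤ)) hge).2 a
    ((deligneIso I M a).hom ≫ e) 0 (Subsingleton.elim _ _)
  refine ⟨b, hb, ?_⟩
  have h := ht ((NatTrans.mapHomologicalComplex (deligneIncl I hb) (ComplexShape.up ℤ)).app C)
    (HomologicalComplex.hom_ext _ _ fun q => CohExtLib.inclMul_ι (CohExtLib.pow_le_pow hb) _)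
  rw [comp_zero, ← Category.assoc, deligneIso_natural, Category.assoc] at h
  rw [← cancel_epi (deligneIso I M b).hom, comp_zero]
  exact h

end Open

section Dual

variable {k : Type u} [Field k] [X.Over (Spec (CommRingCat.of k))] [IsProper (X ↘ Spec (CommRingCat.of k))]
  [IsIntegral X]

/-- Classes in `H^i` coming from all the `I^b M` vanish, for `i + r < n`. -/
theorem eq_zero_of_forall_mem_range (hreg : ∀ x : X, IsRegularLocalRing (X.presheaf.stalk x))
    (n : ℕ) (hdim : topologicalKrullDim X = n) (I : X.IdealSheafData) (U : X.Opens)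
    (hU : (U : Set X) = (I.support : Set X)ᶜ) (r : ℕ)
    (hcd : ∀ G : (U : Scheme.{u}).Modules, Coh.IsCoh G → ∀ i : ℕ, r < i →
      Subsingleton (Coh.HH (U : Scheme.{u}) G i))
    {M : X.Modules} (hM : FlatMod.IsFinLocFree M) (i : ℕ) (hi : i + r + 1 ≤ n) (a : ℕ)
    (x : Coh.HH X ((Dual3.idealMul (I ^ a)).obj M) i)
    (hx : ∀ (b : ℕ) (h : a ≤ b), ∃ x', Canon.HHlin k (CohExtLib.inclMul (CohExtLib.pow_le_pow h) M) i x' = x) :
    x = 0 := by
  haveI : IsLocallyNoetherian X := LocallyOfFiniteType.isLocallyNoetherian (X ↘ Spec (CommRingCat.of k))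
  haveI : CompactSpace X := QuasiCompact.compactSpace_of_compactSpace (X ↘ Spec (CommRingCat.of k))
  haveI : IsNoetherian X := {}
  haveI : EnoughInjectives X.Modules := ModSiteLib.sheafOfModules_enoughInjectives (R := X.ringCatSheaf)
  haveI : HasExt.{u} X.Modules := hasExt_of_enoughInjectives.{u} _
  have hCM : ∀ x : X, LocCoh.IsCohenMacaulayLocalRing (X.presheaf.stalk x) := fun x => by
    haveI := hreg x
    haveI := Groth.Agent.S0342.result (X.presheaf.stalk x)
    exact Groth.Agent.S0341.result _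
  have heq : ∀ Z ∈ irreducibleComponents (X : Type u), topologicalKrullDim Z = (n : WithBot ℕ∞) := fun Z hZ => by
    rw [irreducibleComponents_eq_singleton, Set.mem_singleton_iff] at hZ
    subst hZ
    rw [IsHomeomorph.topologicalKrullDim_eq _ (Homeomorph.Set.univ X).isHomeomorph, hdim]
  obtain ⟨ω, t, hω, hbij⟩ := Groth.Agent.FieldDualLib.exists_duality' (k := k) hCM n heq hdim
  have hMc : Coh.IsCoh M := Groth.Agent.PerfLib.isCoh_of_isFinLocFree hM
  have hq : ∀ b, Coh.IsQCoh ((Dual3.idealMul (I ^ b)).obj M) := fun b => (CohExtLib.isCoh_idealMul _ hMc).1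
  let y := (Groth.Agent.FieldDualLib.homEquivHH (k := k) ((Dual3.idealMul (I ^ a)).obj M) i).symm x
  suffices y = 0 by
    rw [← (Groth.Agent.FieldDualLib.homEquivHH (k := k) ((Dual3.idealMul (I ^ a)).obj M) i).apply_symm_apply x]
    exact (congrArg _ this).trans (map_zero _)
  refine (Module.forall_dual_apply_eq_zero_iff k y).1 fun ψ => ?_
  have hij : ((n - i : ℕ) : ℤ) + (i : ℤ) = (n : ℤ) := by omega
  obtain ⟨e, rfl⟩ := (hbij _ (hq a) _ _ hij).2 ψ
  obtain ⟨b, hb, hkill⟩ := exists_kill U I hU hM hω (n - i) (fun G hG => hcd G hG _ (by omega)) a e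
  obtain ⟨x', hx'⟩ := hx b hb
  let y' := (Groth.Agent.FieldDualLib.homEquivHH (k := k) ((Dual3.idealMul (I ^ b)).obj M) i).symm x'
  have hy : y = y' ≫ (shiftFunctor (DCoh.D X) (i : ℤ)).map
      ((singleFunctor X.Modules 0).map (CohExtLib.inclMul (CohExtLib.pow_le_pow hb) M)) := by
    refine (Groth.Agent.FieldDualLib.homEquivHH (k := k) ((Dual3.idealMul (I ^ a)).obj M) i).injective ?_
    rw [Groth.Agent.FieldDualLib.homEquivHH_natural, LinearEquiv.apply_symm_apply, LinearEquiv.apply_symm_apply, hx']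
  rw [hy, ← Groth.Agent.FieldDualLib.pairing_natural, hkill, map_zero]
  rfl

/-- The maps `H^i(I^b M) → H^i(I^a M)` vanish for `b ≫ a` and `i + r < n`. -/
theorem exists_zero (hreg : ∀ x : X, IsRegularLocalRing (X.presheaf.stalk x))
    (n : ℕ) (hdim : topologicalKrullDim X = n) (I : X.IdealSheafData) (U : X.Opens)
    (hU : (U : Set X) = (I.support : Set X)ᶜ) (r : ℕ)
    (hcd : ∀ G : (U : Scheme.{u}).Modules, Coh.IsCoh G → ∀ i : ℕ, r < i →
      Subsingleton (Coh.HH (U : Scheme.{u}) G i))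
    {M : X.Modules} (hM : FlatMod.IsFinLocFree M) (i : ℕ) (hi : i + r + 1 ≤ n) (a : ℕ) :
    ∃ (b : ℕ) (h : a ≤ b), ∀ x, Canon.HHlin k (CohExtLib.inclMul (CohExtLib.pow_le_pow (J := I) h) M) i x = 0 := by
  haveI : IsLocallyNoetherian X := LocallyOfFiniteType.isLocallyNoetherian (X ↘ Spec (CommRingCat.of k))
  haveI : CompactSpace X := QuasiCompact.compactSpace_of_compactSpace (X ↘ Spec (CommRingCat.of k))
  have hMc : Coh.IsCoh M := Groth.Agent.PerfLib.isCoh_of_isFinLocFree hM
  haveI : Module.Finite k (Coh.HH X ((Dual3.idealMul (I ^ a)).obj M) i) :=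
    CurvLib.finite_HH (k := k) (CohExtLib.isCoh_idealMul _ hMc) i
  let R : ℕ → Submodule k (Coh.HH X ((Dual3.idealMul (I ^ a)).obj M) i) := fun m =>
    LinearMap.range (Canon.HHlin k (CohExtLib.inclMul (CohExtLib.pow_le_pow (J := I) (Nat.le_add_right a m)) M) i)
  have hR : ∀ m m' : ℕ, m ≤ m' → R m' ≤ R m := fun m m' h => by
    rintro _ ⟨y, rfl⟩
    refine ⟨Canon.HHlin k (CohExtLib.inclMul (CohExtLib.pow_le_pow (J := I) (Nat.add_le_add_left h a)) M) i y, ?_⟩
    show CurvLib.hMap (k := k) _ i (CurvLib.hMap (k := k) _ i y) = CurvLib.hMap (k := k) _ i y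
    rw [← CurvLib.hMap_comp]
    congr 2
    rw [← cancel_mono (Dual3.idealMulι (I ^ a) M), Category.assoc, CohExtLib.inclMul_ι, CohExtLib.inclMul_ι,
      CohExtLib.inclMul_ι]
  obtain ⟨m, hm⟩ := IsArtinian.monotone_stabilizes (R := k) (M := Coh.HH X ((Dual3.idealMul (I ^ a)).obj M) i)
    ⟨fun m => OrderDual.toDual (R m), fun m m' h => hR m m' h⟩
  refine ⟨a + m, Nat.le_add_right a m, fun x => eq_zero_of_forall_mem_range (k := k) hreg n hdim I U hU r hcd hM i hi a _
    fun b hb => ?_⟩
  obtain ⟨c, rfl⟩ := Nat.exists_eq_add_of_le hb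
  have hx : Canon.HHlin k (CohExtLib.inclMul (CohExtLib.pow_le_pow (J := I) (Nat.le_add_right a m)) M) i x ∈ R c := by
    rcases le_total c m with h | h
    · exact hR c m h ⟨x, rfl⟩
    · exact (show R m = R c from OrderDual.toDual.injective (hm c h)) ▸ (show _ ∈ R m from ⟨x, rfl⟩)
  exact hx

theorem isIso_idealMulι_pow_zero (I : X.IdealSheafData) (M : X.Modules) : IsIso (Dual3.idealMulι (I ^ 0) M) := by
  have h : FormalCohLib.quotKπ (I ^ 0) M = 0 := CohExtLib.hom_eq_zero_of_affine _ fun V hV w => by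
    refine CohExtLib.eq_zero_of_gm _ fun p hp => ?_
    exact @Subsingleton.elim _ (not_not.mp (DevissExt.notMem_support_quot (I ^ 0) (fun hp' => by
      rw [show (I ^ 0 : X.IdealSheafData) = ⊤ from Scheme.IdealSheafData.ext (funext fun W => by
        rw [CohExtLib.pow_ideal, pow_zero, Ideal.one_eq_top]; rfl), Scheme.IdealSheafData.support_top] at hp'
      exact hp') M)) _ _
  exact KernelFork.IsLimit.isIso_ι (KernelFork.ofι (Dual3.idealMulι (I ^ 0) M) (kernel.condition _))
    (kernelIsKernel _) h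

/-- **Injectivity into the cohomology of the thickenings**, for locally free modules. -/
theorem injective_thickenings (hreg : ∀ x : X, IsRegularLocalRing (X.presheaf.stalk x))
    (n : ℕ) (hdim : topologicalKrullDim X = n) (I : X.IdealSheafData) (U : X.Opens)
    (hU : (U : Set X) = (I.support : Set X)ᶜ) (r : ℕ)
    (hcd : ∀ G : (U : Scheme.{u}).Modules, Coh.IsCoh G → ∀ i : ℕ, r < i →
      Subsingleton (Coh.HH (U : Scheme.{u}) G i))
    {M : X.Modules} (hM : FlatMod.IsFinLocFree M) (i : ℕ) (hi : i + r + 1 ≤ n) (x : Coh.HH X M i)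
    (hx : ∀ m : ℕ, CurvLib.hMap (k := k) (FormalCohLib.quotKπ (I ^ (m + 1)) M) i x = 0) : x = 0 := by
  haveI : IsLocallyNoetherian X := LocallyOfFiniteType.isLocallyNoetherian (X ↘ Spec (CommRingCat.of k))
  haveI : CompactSpace X := QuasiCompact.compactSpace_of_compactSpace (X ↘ Spec (CommRingCat.of k))
  have hMc : Coh.IsCoh M := Groth.Agent.PerfLib.isCoh_of_isFinLocFree hM
  haveI := hMc.1
  obtain ⟨b, hb, hz⟩ := exists_zero (k := k) hreg n hdim I U hU r hcd hM i hi 0
  haveI : Epi (FormalCohLib.quotKπ (I ^ (b + 1)) M) :=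
    DefClassLib.epi_of_affines _ fun V => FormalCohLib.app_quotKπ_surjective _ M V.2
  have hS : (ShortComplex.mk _ _ (CohExtLib.idealMulι_π (I ^ (b + 1)) M)).ShortExact :=
    { exact := ShortComplex.exact_of_f_is_kernel _ (kernelIsKernel _)
      mono_f := Dual3.mono_idealMulι _ _
      epi_g := ‹_› }
  obtain ⟨z, rfl⟩ : x ∈ LinearMap.range (CurvLib.hMap (k := k) (Dual3.idealMulι (I ^ (b + 1)) M) i) :=
    (CurvLib.exact₂ hS i).ge (hx b)
  rw [show Dual3.idealMulι (I ^ (b + 1)) M = CohExtLib.inclMul (CohExtLib.pow_le_pow (Nat.le_succ b)) M ≫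
    CohExtLib.inclMul (CohExtLib.pow_le_pow hb) M ≫ Dual3.idealMulι (I ^ 0) M by
      rw [CohExtLib.inclMul_ι, CohExtLib.inclMul_ι], CurvLib.hMap_comp, CurvLib.hMap_comp]
  exact (congrArg (CurvLib.hMap (k := k) (Dual3.idealMulι (I ^ 0) M) i) (hz _)).trans (map_zero _)

omit [IsIntegral X] in
theorem unitToPush_eq {Z : Scheme.{u}} (g : Z ⟶ X) :
    (Scheme.Modules.pullbackPushforwardAdjunction g).unit.app (Coh.structureModule X) ≫
      (Scheme.Modules.pushforward g).map (KFlatLib.pullUnitIso g).hom = ClSub.unitToPush g := by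
  apply Scheme.Modules.hom_ext
  intro V
  exact ConcreteCategory.hom_ext _ _ fun s => CohCmpLib.pullUnitIso_puSec g s

omit [IsIntegral X] in
/-- The ideal sheaf is the ideal times the structure sheaf. -/
theorem exists_idealModIso (J : X.IdealSheafData) :
    ∃ e : (Dual3.idealMul J).obj (Coh.structureModule X) ≅ ClSub.idealMod J,
      e.hom ≫ ClSub.idealModι J = Dual3.idealMulι J (Coh.structureModule X) := by
  haveI : Mono (ClSub.idealModι J) := equalizer.ι_mono
  have w : Dual3.idealMulι J (Coh.structureModule X) ≫ ClSub.toSubscheme J = 0 := by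
    show _ ≫ ClSub.unitToPush J.subschemeι = 0
    rw [← unitToPush_eq, ← Category.assoc]
    exact (congrArg (· ≫ _) (kernel.condition _)).trans zero_comp
  have w' : ClSub.idealModι J ≫
      (Scheme.Modules.pullbackPushforwardAdjunction J.subschemeι).unit.app (Coh.structureModule X) = 0 := by
    rw [← cancel_mono ((Scheme.Modules.pushforward J.subschemeι).map (KFlatLib.pullUnitIso J.subschemeι).hom),
      Category.assoc, unitToPush_eq, zero_comp]
    exact kernel.condition _
  refine ⟨⟨kernel.lift _ _ w, kernel.lift _ _ w', ?_, ?_⟩, kernel.lift_ι _ _ _⟩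
  · rw [← cancel_mono (Dual3.idealMulι J (Coh.structureModule X)), Category.assoc, Category.id_comp]
    exact (congrArg (kernel.lift _ _ w ≫ ·) (kernel.lift_ι _ _ w')).trans (kernel.lift_ι _ _ w)
  · rw [← cancel_mono (ClSub.idealModι J), Category.assoc, Category.id_comp]
    exact (congrArg (kernel.lift _ _ w' ≫ ·) (kernel.lift_ι _ _ w)).trans (kernel.lift_ι _ _ w')

/-- The powers of the ideal form an essentially zero system on cohomology below `n - r`. -/
theorem exists_zeroStep (hreg : ∀ x : X, IsRegularLocalRing (X.presheaf.stalk x))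
    (n : ℕ) (hdim : topologicalKrullDim X = n) (I : X.IdealSheafData) (U : X.Opens)
    (hU : (U : Set X) = (I.support : Set X)ᶜ) (r : ℕ)
    (hcd : ∀ G : (U : Scheme.{u}).Modules, Coh.IsCoh G → ∀ i : ℕ, r < i →
      Subsingleton (Coh.HH (U : Scheme.{u}) G i))
    (c : ℕ) (hc : c + r + 1 ≤ n) (p : ℕ) :
    ∃ q : ℕ, p ≤ q ∧ EssZeroLib.ZeroStep k c (I ^ (q + 1)) (I ^ (p + 1)) := by
  have hO : FlatMod.IsFinLocFree (Coh.structureModule X) := AmpleDevLib.isFinLocFree_of_isInvertible CurvLib.isInvertible_structureModule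
  have key : ∀ j : ℕ, ∃ (b : ℕ) (h : p + 1 ≤ b), j ≤ c → ∀ x,
      Canon.HHlin k (CohExtLib.inclMul (CohExtLib.pow_le_pow (J := I) h) (Coh.structureModule X)) j x = 0 := fun j => by
    by_cases hj : j ≤ c
    · obtain ⟨b, h, hz⟩ := exists_zero (k := k) hreg n hdim I U hU r hcd hO j (by omega) (p + 1)
      exact ⟨b, h, fun _ => hz⟩
    · exact ⟨p + 1, le_rfl, fun h => absurd h hj⟩
  choose b hb hz using key
  let q := p + (Finset.range (c + 1)).sup b
  refine ⟨q, Nat.le_add_right _ _, ?_⟩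
  obtain ⟨i, hi⟩ := EssZeroLib.exists_incl (CohExtLib.pow_le_pow (J := I) (show p + 1 ≤ q + 1 by omega))
  refine ⟨i, hi, fun j hj x => ?_⟩
  obtain ⟨e, he⟩ := exists_idealModIso (I ^ (q + 1))
  obtain ⟨e', he'⟩ := exists_idealModIso (I ^ (p + 1))
  have hbq : b j ≤ q + 1 := by
    have := Finset.le_sup (f := b) (Finset.mem_range.mpr (show j < c + 1 by omega))
    omega
  haveI : Mono (ClSub.idealModι (I ^ (p + 1))) := equalizer.ι_mono
  have hi' : i = e.inv ≫ (CohExtLib.inclMul (CohExtLib.pow_le_pow (J := I) hbq) (Coh.structureModule X) ≫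
      CohExtLib.inclMul (CohExtLib.pow_le_pow (J := I) (hb j)) (Coh.structureModule X)) ≫ e'.hom := by
    rw [← cancel_mono (ClSub.idealModι (I ^ (p + 1))), hi, Category.assoc, Category.assoc, Category.assoc, he',
      CohExtLib.inclMul_ι, CohExtLib.inclMul_ι, ← he, Iso.inv_hom_id_assoc]
  rw [hi', CurvLib.hMap_comp, CurvLib.hMap_comp, CurvLib.hMap_comp]
  exact (congrArg (CurvLib.hMap (k := k) e'.hom j) (hz j hj _)).trans (map_zero _)

end Dual

end CohDimFormalLib
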